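import Groth.Agent.S2045
import Groth.Agent.S2653
import Groth.Agent.S0599
import Groth.Agent.S0507
import Groth.Agent.GRingLib.FiniteType
import Groth.Agent.S0506
import Mathlib.RingTheory.PrincipalIdealDomain
import Mathlib.Algebra.Algebra.Subalgebra.Basic

/-!
# Henselian local G-rings inside a henselian local ring
-/

set_option autoImplicit false
set_option linter.style.haveILetI false
set_option maxHeartbeats 1000000

universe u

open IsLocalRing

namespace HensColimLib

/-- The integers in universe `u`. -/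
abbrev Zu : Type u := ULift.{u} ℤ

theorem isGRing_Zu : CAlg.IsGRing Zu.{u} := by
  haveI : IsDomain Zu.{u} := ULift.ringEquiv.toMulEquiv.isDomain ℤ
  haveI : IsPrincipalIdealRing Zu.{u} :=
    IsPrincipalIdealRing.of_surjective (ULift.ringEquiv (R := ℤ)).symm.toRingHom ULift.ringEquiv.symm.surjective
  haveI : CharZero Zu.{u} := ⟨fun a b h => by simpa using congrArg ULift.down h⟩
  exact (Groth.Agent.S2653.result Zu.{u}).2.2.1

theorem henselianLocalRing_of_surjective {R S : Type u} [CommRing R] [HenselianLocalRing R] [CommRing S]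
    [Nontrivial S] (φ : R →+* S) (hφ : Function.Surjective φ) : HenselianLocalRing S := by
  haveI : IsLocalRing S := IsLocalRing.of_surjective' φ hφ
  haveI : IsLocalHom φ := IsLocalHom.of_surjective φ hφ
  refine { is_henselian := fun f hf a₀ h₁ h₂ => ?_ }
  obtain ⟨g, hg, -, hgm⟩ := Polynomial.lifts_and_degree_eq_and_monic
    (f := φ) (p := f) (Polynomial.mem_lifts _ |>.2 (Polynomial.map_surjective φ hφ f)) hf
  obtain ⟨b, rfl⟩ := hφ a₀
  subst hg
  rw [Polynomial.eval_map_apply] at h₁
  rw [Polynomial.derivative_map, Polynomial.eval_map_apply] at h₂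
  obtain ⟨a, ha, ha'⟩ := HenselianLocalRing.is_henselian g hgm b
    ((mem_maximalIdeal _).2 fun hu => (mem_maximalIdeal _).1 h₁ (hu.map φ)) (IsUnit.of_map φ _ h₂)
  refine ⟨φ a, ?_, ?_⟩
  · rw [Polynomial.IsRoot.def, Polynomial.eval_map_apply, ha, map_zero]
  · rw [← map_sub]
    exact (mem_maximalIdeal _).2 fun hu => (mem_maximalIdeal _).1 ha' (IsUnit.of_map φ _ hu)

/-- The least henselian subring with local inclusion containing a subring `R`, when `R` is a G-ring. -/
theorem exists_hull {A : Type u} [CommRing A] [HenselianLocalRing A] (R : Subring A) (hR : CAlg.IsGRing R) :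
    ∃ B : Subring A, (R ≤ B ∧ HenselianLocalRing B ∧ CAlg.IsGRing B ∧ IsLocalHom B.subtype) ∧
      ∀ B' : Subring A, R ≤ B' → HenselianLocalRing B' → IsLocalHom B'.subtype → B ≤ B' := by
  let p : Ideal R := (maximalIdeal A).comap R.subtype
  haveI : p.IsPrime := Ideal.comap_isPrime _ _
  obtain ⟨L, _, _, _, _⟩ : ∃ (L : Type u) (_ : CommRing L) (_ : Algebra R L) (_ : IsLocalization.AtPrime L p), True :=
    ⟨Localization.AtPrime p, inferInstance, inferInstance, inferInstance, trivial⟩
  haveI : IsLocalRing L := IsLocalization.AtPrime.isLocalRing L p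
  have hL : CAlg.IsGRing L := GRingLib.isGRing_of_isLocalization _ _ p.primeCompl hR
  haveI := hL.1
  obtain ⟨S, _, _, _, _, hS⟩ := Groth.Agent.S0506.result L
  haveI := hS
  haveI : HenselianLocalRing S := hS.henselian
  have hlift : ∀ (B : Subring A) (hRB : R ≤ B), IsLocalHom B.subtype →
      ∀ a : p.primeCompl, IsUnit (Subring.inclusion hRB a) := fun B hRB hB a => by
    refine hB.map_nonunit _ ?_
    by_contra h
    exact a.2 ((mem_maximalIdeal _).2 h)
  have hu : ∀ a : p.primeCompl, IsUnit (R.subtype a) := fun a => by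
    by_contra h
    exact a.2 ((mem_maximalIdeal _).2 h)
  let ι : L →+* A := IsLocalization.lift hu
  have hι : IsLocalHom ι := ⟨fun x hx => by
    obtain ⟨a, b, rfl⟩ := IsLocalization.exists_mk'_eq p.primeCompl x
    rw [IsLocalization.AtPrime.isUnit_mk'_iff]
    intro ha
    rw [show ι (IsLocalization.mk' L a b) = _ from IsLocalization.lift_mk' hu a b] at hx
    exact (mem_maximalIdeal _).1 (show R.subtype a ∈ maximalIdeal A from ha) (isUnit_of_mul_isUnit_left hx)⟩
  obtain ⟨θ, hθ, hθu⟩ := hS.universal A ι hι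
  have hloc : IsLocalHom θ := ⟨fun x hx => by
    by_contra h
    have h1 : x ∈ (maximalIdeal L).map (algebraMap L S) := by
      rw [Groth.Agent.S0507.result L S]
      exact (mem_maximalIdeal _).2 h
    refine (mem_maximalIdeal _).1 (?_ : θ x ∈ maximalIdeal A) hx
    refine (Ideal.map_le_iff_le_comap.2 ?_ :
      ((maximalIdeal L).map (algebraMap L S)) ≤ (maximalIdeal A).comap θ) h1
    rw [Ideal.comap_comap, show θ.comp (algebraMap _ _) = ι from hθ]
    exact fun y hy => (mem_maximalIdeal _).2 fun hu => (mem_maximalIdeal _).1 hy (hι.map_nonunit y hu)⟩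
  refine ⟨θ.range, ⟨fun a ha => ⟨algebraMap L S (algebraMap R L ⟨a, ha⟩), ?_⟩,
    henselianLocalRing_of_surjective _ θ.rangeRestrict_surjective,
    GRingLib.isGRing_of_surjective _ _ _ θ.rangeRestrict_surjective (Groth.Agent.S2045.result (R := L) hL),
    ⟨fun x hx => ?_⟩⟩, fun B hRB hB hBloc => ?_⟩
  · rw [← RingHom.comp_apply, hθ, IsLocalization.lift_eq]
    rfl
  · obtain ⟨y, rfl⟩ := θ.rangeRestrict_surjective x
    exact (hloc.map_nonunit y hx).map _
  · let j : L →+* B := IsLocalization.lift (hlift B hRB hBloc)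
    have hj : B.subtype.comp j = ι := by
      refine IsLocalization.ringHom_ext p.primeCompl (RingHom.ext fun a => ?_)
      simp only [RingHom.comp_apply, j, ι, IsLocalization.lift_eq]
      rfl
    have hjloc : IsLocalHom j := ⟨fun x hx => hι.map_nonunit x (hj ▸ hx.map B.subtype)⟩
    obtain ⟨g, hg, -⟩ := hS.universal B j hjloc
    have heq : B.subtype.comp g = θ := hθu _ (by
      show (B.subtype.comp g).comp (algebraMap L S) = ι
      rw [RingHom.comp_assoc, hg, hj])
    rintro _ ⟨x, rfl⟩
    rw [← heq]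
    exact (g x).2

/-- The stages attached to finite sets. -/
theorem exists_stages (A : Type u) [CommRing A] [HenselianLocalRing A] :
    ∃ G : Finset A → Subring A, Monotone G ∧ (∀ s, ∀ a ∈ s, a ∈ G s) ∧
      ∀ s, HenselianLocalRing (G s) ∧ CAlg.IsGRing (G s) ∧ IsLocalHom (G s).subtype := by
  classical
  letI : Algebra Zu.{u} A := ((Int.castRingHom A).comp (ULift.ringEquiv (R := ℤ)).toRingHom).toAlgebra
  let R : Finset A → Subalgebra Zu.{u} A := fun s => Algebra.adjoin _ (s : Set A)
  have hR : ∀ s, CAlg.IsGRing (R s).toSubring := fun s => by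
    haveI : Algebra.FiniteType Zu.{u} (R s) := Algebra.FiniteType.adjoin_of_finite s.finite_toSet
    exact Groth.Agent.S0599.result Zu.{u} isGRing_Zu (R s)
  choose G hG hmin using fun s => exists_hull (R s).toSubring (hR s)
  refine ⟨G, fun s t hst => hmin s _ (le_trans ?_ (hG t).1) (hG t).2.1 (hG t).2.2.2,
    fun s a ha => (hG s).1 (Algebra.subset_adjoin ha), fun s => (hG s).2⟩
  exact fun x hx => Algebra.adjoin_mono (Finset.coe_subset.2 hst) hx

end HensColimLib
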